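import Cfsg.Agent.H997.OutHe2
import Cfsg.Agent.H710.PSq.Syl

/-!
# The centralizers of the involutions of `He` have an even number of Sylow 7-subgroups (helper189, S4844)

`even_he`.  An element `u` of 2-power order normalising a group of order 7 has `u ^ 2` in its centralizer; elements of
order 7 of `He` fix none of the 2058 points, and the commuting involutions `a, e` (and `e, (a b) ^ 2`) have 26 common
fixed points.
-/

set_option autoImplicit false
set_option maxRecDepth 100000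

namespace Cfsg.Agent.H189.Psq.HeInv

open Subgroup Cfsg Cfsg.Spor Cfsg.Spor.He
open Cfsg.Agent.SporadicB.HePerm Cfsg.Agent.FixBN.HeStab
open Cfsg.Agent.KFacts.He.Lv Cfsg.Agent.KFacts.He.TwoACent

/-- an element whose square commutes with no element of order 7 -/
theorem even_of_sq {C : Type*} [Group C] [Finite C] (h1 : (Nat.card C).factorization 7 = 1) {u : C} {k : ℕ}
    (hu : u ^ 2 ^ k = 1) (hd : ∀ y : C, orderOf y = 7 → y * u ^ 2 ≠ u ^ 2 * y) : Even (Nat.card (Sylow 7 C)) := by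
  have hp : Fact (Nat.Prime 7) := ⟨by norm_num⟩
  have hT : IsPGroup 2 (zpowers u) := by
    rintro ⟨a, ha⟩
    obtain ⟨i, rfl⟩ := mem_zpowers_iff.1 ha
    refine ⟨k, Subtype.ext ?_⟩
    show (u ^ i) ^ 2 ^ k = 1
    rw [← zpow_natCast, ← zpow_mul, mul_comm, zpow_mul, zpow_natCast, hu, one_zpow]
  refine H710.PSq.even_of_noFixed (zpowers u) hT fun Q => ⟨u, mem_zpowers u, fun hQ => ?_⟩
  have hcard : Nat.card Q = 7 := by rw [Q.card_eq_multiplicity, h1, pow_one]
  have hcyc : IsCyclic Q := isCyclic_of_prime_card hcard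
  have hnorm : u ∈ normalizer ((Q : Subgroup C) : Set C) := Sylow.smul_eq_iff_mem_normalizer.1 hQ
  let nu : normalizer ((Q : Subgroup C) : Set C) := ⟨u, hnorm⟩
  let φ : normalizer ((Q : Subgroup C) : Set C) →* MulAut (Q : Subgroup C) := MulDistribMulAction.toMulAut _ _
  have h6 : (φ nu) ^ 6 = 1 := by
    have h2 : Nat.card (MulAut (Q : Subgroup C)) = 6 := by
      rw [IsCyclic.card_mulAut, hcard]
      decide
    rw [← h2]
    exact pow_card_eq_one'
  have hk : (φ nu) ^ 2 ^ k = 1 := by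
    rw [← map_pow]
    have : nu ^ 2 ^ k = 1 := Subtype.ext hu
    rw [this, map_one]
  have h2 : (φ nu) ^ 2 = 1 := by
    have h3 : orderOf (φ nu) ∣ Nat.gcd 6 (2 ^ k) := Nat.dvd_gcd (orderOf_dvd_of_pow_eq_one h6) (orderOf_dvd_of_pow_eq_one hk)
    have h4 : Nat.gcd 6 (2 ^ k) ∣ 2 := by
      have h5 : Nat.Coprime 3 (2 ^ k) := Nat.Coprime.pow_right k (by norm_num)
      have h7 : Nat.gcd (3 * 2) (2 ^ k) = Nat.gcd 2 (2 ^ k) := h5.gcd_mul_left_cancel 2
      rw [show (6 : ℕ) = 3 * 2 from rfl, h7]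
      exact Nat.gcd_dvd_left _ _
    exact orderOf_dvd_iff_pow_eq_one.1 (h3.trans h4)
  obtain ⟨y, hy⟩ := exists_prime_orderOf_dvd_card' (G := Q) 7 (by rw [hcard])
  apply hd (y : C) (by rw [Subgroup.orderOf_coe, hy])
  have h8 : ((φ nu ^ 2) y : C) = u ^ 2 * y * (u ^ 2)⁻¹ := by
    rw [← map_pow]
    rfl
  rw [h2] at h8
  have h9 : (y : C) = u ^ 2 * y * (u ^ 2)⁻¹ := h8
  exact eq_mul_inv_iff_mul_eq.1 h9

/-- number of `k < n` with `p k` -/
def cnt (n : ℕ) (p : ℕ → Bool) : ℕ := Nat.rec 0 (fun k ih => cond (p k) (Nat.succ ih) ih) n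

theorem cnt_eq (p : ℕ → Bool) (n : ℕ) : cnt n p = ((Finset.range n).filter fun i => p i = true).card := by
  induction n with
  | zero => rfl
  | succ n ih =>
    rw [Finset.range_add_one, Finset.filter_insert]
    have h : cnt (n + 1) p = cond (p n) (Nat.succ (cnt n p)) (cnt n p) := rfl
    rw [h, ih]
    by_cases hp : p n = true
    · rw [if_pos hp, Finset.card_insert_of_notMem (by simp), hp]
      rfl
    · rw [if_neg hp]
      rw [Bool.not_eq_true] at hp
      rw [hp]
      rfl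

theorem card_eq {F : Set (Fin 2058)} {p : ℕ → Bool} (h : ∀ i : Fin 2058, i ∈ F ↔ p i = true) :
    Nat.card F = cnt 2058 p := by
  classical
  rw [cnt_eq]
  have h1 : F = ↑(Finset.univ.filter fun i : Fin 2058 => p i = true) := by
    ext i
    rw [h, Finset.mem_coe, Finset.mem_filter]
    simp
  rw [h1, Nat.card_coe_set_eq, Set.ncard_coe_finset]
  refine Finset.card_bij (fun i _ => (i : ℕ)) ?_ ?_ ?_
  · intro i hi
    rw [Finset.mem_filter] at hi ⊢
    exact ⟨Finset.mem_range.2 i.2, hi.2⟩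
  · intro i _ j _ hij
    exact Fin.ext hij
  · intro i hi
    rw [Finset.mem_filter, Finset.mem_range] at hi
    exact ⟨⟨i, hi.1⟩, by rw [Finset.mem_filter]; exact ⟨Finset.mem_univ _, hi.2⟩, rfl⟩

/-- elements of order 7 fix no point -/
theorem not_fix {y : Cfsg.Spor.He} (hy : orderOf y = 7) (i : Fin 2058) : phi y i ≠ i := by
  intro h
  have ht := pretransitive
  have h1 := MulAction.index_stabilizer_of_transitive phi.range i
  have h2 := (MulAction.stabilizer phi.range i).card_mul_index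
  rw [h1, card_phi_range, Nat.card_fin] at h2
  have h3 : orderOf (⟨phi y, ⟨y, rfl⟩⟩ : phi.range) = 7 := by
    rw [← Subgroup.orderOf_coe]
    show orderOf (phi y) = 7
    rw [orderOf_injective phi phi_injective, hy]
  have h4 : (⟨phi y, ⟨y, rfl⟩⟩ : phi.range) ∈ MulAction.stabilizer phi.range i := by
    rw [MulAction.mem_stabilizer_iff]
    exact h
  have h5 := orderOf_dvd_natCard (⟨⟨phi y, ⟨y, rfl⟩⟩, h4⟩ : MulAction.stabilizer phi.range i)
  rw [← Subgroup.orderOf_coe] at h5
  rw [h3] at h5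
  omega

theorem seven_dvd {y : Cfsg.Spor.He} (hy : orderOf y = 7) {F : Set (Fin 2058)} (hF : ∀ i, i ∈ F ↔ phi y i ∈ F) :
    7 ∣ Nat.card F := by
  classical
  have hp : Fact (Nat.Prime 7) := ⟨by norm_num⟩
  let σ : Equiv.Perm F := (phi y).subtypePerm (p := fun i => i ∈ F) (fun i => (hF i).symm)
  have h0 : (phi y) ^ 7 = 1 := by rw [← map_pow, ← hy, pow_orderOf_eq_one, map_one]
  have h1 : σ ^ 7 ^ 1 = 1 := by
    rw [pow_one, Equiv.Perm.subtypePerm_pow]
    ext i
    rw [Equiv.Perm.subtypePerm_apply]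
    show (((phi y ^ 7) (i : Fin 2058) : Fin 2058) : ℕ) = ((i : Fin 2058) : ℕ)
    rw [h0, Equiv.Perm.one_apply]
  let f : Function.End F := fun i => σ i
  have hf : f ^ 7 ^ 1 = 1 := by
    have h3 : ∀ n : ℕ, ∀ i, (f ^ n) i = (σ ^ n) i := by
      intro n
      induction n with
      | zero => intro i; rfl
      | succ n ih =>
        intro i
        rw [pow_succ, pow_succ]
        exact ih (σ i)
    funext i
    rw [h3, h1]
    rfl
  have h2 := Equiv.Perm.card_fixedPoints_modEq (p := 7) hf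
  have h3 : Fintype.card (Function.fixedPoints f) = 0 := by
    rw [Fintype.card_eq_zero_iff]
    refine ⟨fun i => not_fix hy (i : F) ?_⟩
    have h4 := i.2
    rw [Function.mem_fixedPoints_iff] at h4
    exact congrArg Subtype.val h4
  rw [h3] at h2
  rw [Nat.card_eq_fintype_card]
  exact (Nat.modEq_zero_iff_dvd).1 h2

/-- the test on common fixed points -/
def tst (v w : List Gen) (i : ℕ) : Bool := and (Nat.beq (act v i) i) (Nat.beq (act w i) i)

theorem comm_ne {v w : List Gen} {n : ℕ} (h : cnt 2058 (tst v w) = n) (hn : ¬ 7 ∣ n) {y : Cfsg.Spor.He}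
    (hy : orderOf y = 7) (hv : y * wd v = wd v * y) : y * wd w ≠ wd w * y := by
  intro hw
  apply hn
  have h1 : ∀ {x : Cfsg.Spor.He}, y * x = x * y → ∀ i, phi x i = i ↔ phi x (phi y i) = phi y i := by
    intro x hx i
    have h2 : phi x (phi y i) = phi y (phi x i) := by
      rw [← Equiv.Perm.mul_apply, ← Equiv.Perm.mul_apply, ← map_mul, ← map_mul, hx]
    rw [h2, (phi y).injective.eq_iff]
  let F : Set (Fin 2058) := {i | phi (wd v) i = i ∧ phi (wd w) i = i}
  have h2 : Nat.card F = n := by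
    rw [← h]
    refine card_eq fun i => ?_
    show (phi (wd v) i = i ∧ phi (wd w) i = i) ↔ and (Nat.beq (act v i) i) (Nat.beq (act w i) i) = true
    rw [Bool.and_eq_true, Nat.beq_eq, Nat.beq_eq, ← phi_wd_apply, ← phi_wd_apply, Fin.val_inj, Fin.val_inj]
  rw [← h2]
  refine seven_dvd hy fun i => ?_
  show (phi (wd v) i = i ∧ phi (wd w) i = i) ↔ (phi (wd v) (phi y i) = phi y i ∧ phi (wd w) (phi y i) = phi y i)
  rw [h1 hv i, h1 hw i]

theorem cnt_ae : cnt 2058 (tst [.a] [.f, .g, .f, .g]) = 26 := by decide +kernel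
theorem cnt_eab : cnt 2058 (tst [.e] [.a, .b, .a, .b]) = 26 := by decide +kernel
theorem cnt_a : cnt 2058 (tst [.a] [.a]) = 154 := by decide +kernel
theorem cnt_e : cnt 2058 (tst [.e] [.e]) = 42 := by decide +kernel

theorem comm_fg : wd [.f, .g] * wd [.a] = wd [.a] * wd [.f, .g] := by
  have h := eq_of_chkB (v := [.f, .g, .a]) (w := [.a, .f, .g]) (by decide +kernel)
  simp only [wd_cons, wd_nil, mul_one] at h ⊢
  rw [mul_assoc, h]

theorem fg_four : wd [.f, .g] ^ 2 ^ 2 = 1 := by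
  have h := eq_of_chkB (v := [.f, .g, .f, .g, .f, .g, .f, .g]) (w := []) (by decide +kernel)
  simp only [wd_cons, wd_nil, mul_one] at h ⊢
  rw [← h]
  simp only [show 2 ^ 2 = 4 from rfl, pow_succ, pow_zero, one_mul, mul_assoc]

theorem comm_ab : wd [.a, .b] * wd [.e] = wd [.e] * wd [.a, .b] := by
  have h := eq_of_chkB (v := [.a, .b, .e]) (w := [.e, .a, .b]) (by decide +kernel)
  simp only [wd_cons, wd_nil, mul_one] at h ⊢
  rw [mul_assoc, h]

theorem ab_four : wd [.a, .b] ^ 2 ^ 2 = 1 := by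
  have h := eq_of_chkB (v := [.a, .b, .a, .b, .a, .b, .a, .b]) (w := []) (by decide +kernel)
  simp only [wd_cons, wd_nil, mul_one] at h ⊢
  rw [← h]
  simp only [show 2 ^ 2 = 4 from rfl, pow_succ, pow_zero, one_mul, mul_assoc]

theorem sq_word (x y : Gen) : wd [x, y] ^ 2 = wd [x, y, x, y] := by
  simp only [wd_cons, wd_nil, mul_one, pow_two, mul_assoc]

/-- the centralizer of an involution `t` and a 2-element `u` in it -/
theorem even_word {v : List Gen} {x y : Gen} {n : ℕ} (hc : cnt 2058 (tst v [x, y, x, y]) = n) (hn : ¬ 7 ∣ n)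
    (h1 : (Nat.card (centralizer ({wd v} : Set Cfsg.Spor.He))).factorization 7 = 1)
    (hu : wd [x, y] ^ 2 ^ 2 = 1) (hcomm : wd [x, y] * wd v = wd v * wd [x, y]) :
    Even (Nat.card (Sylow 7 (centralizer ({wd v} : Set Cfsg.Spor.He)))) := by
  have hfin := Cfsg.Agent.KFacts.He.Hyp.finHe
  refine even_of_sq h1 (u := ⟨wd [x, y], mem_centralizer_singleton_iff.2 hcomm⟩) (k := 2) (Subtype.ext hu) ?_
  rintro ⟨c, hcv⟩ hc7 hcc
  rw [← Subgroup.orderOf_coe] at hc7
  have h2 : c * wd [x, y] ^ 2 = wd [x, y] ^ 2 * c := congrArg Subtype.val hcc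
  rw [sq_word] at h2
  exact comm_ne hc hn hc7 (mem_centralizer_singleton_iff.1 hcv) h2

theorem fac_one {n : ℕ} (h : 7 ∣ n) (h' : n ∣ 161280 ∨ n ∣ 21504) : n.factorization 7 = 1 := by
  have h7 : Nat.Prime 7 := by norm_num
  have h0 : n ≠ 0 := by
    rintro rfl
    rcases h' with h' | h' <;> · rw [Nat.zero_dvd] at h'; norm_num at h'
  have h1 : 1 ≤ n.factorization 7 := (h7.pow_dvd_iff_le_factorization h0).1 (by rwa [pow_one])
  have h2 : ¬ 2 ≤ n.factorization 7 := by
    intro h3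
    have h4 : 7 ^ 2 ∣ n := (h7.pow_dvd_iff_le_factorization h0).2 h3
    rcases h' with h' | h' <;> · have := h4.trans h'; norm_num at this
  omega

theorem even_a : Even (Nat.card (Sylow 7 (centralizer ({gn .a} : Set Cfsg.Spor.He)))) := by
  have hfin := Cfsg.Agent.KFacts.He.Hyp.finHe
  rw [← wd_one]
  refine even_word cnt_ae (by norm_num) (fac_one ?_ (Or.inl ?_)) fg_four comm_fg
  · rw [wd_one]
    refine dvd_trans ?_ (card_dvd_of_le CTwoTab.He.L_le_cent)
    rw [CTwoTab.He.card_L]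
    norm_num
  · rw [wd_one]
    exact H997.OutHe.card_cent_a

theorem card_conj {s t : Cfsg.Spor.He} (h : IsConj s t) : Nat.card ↥(centralizer ({t} : Set Cfsg.Spor.He)) =
    Nat.card ↥(centralizer ({s} : Set Cfsg.Spor.He)) := by
  obtain ⟨c, rfl⟩ := isConj_iff.1 h
  have h1 := CTwoTab.map_centralizer_singleton (MulAut.conj c) s
  rw [show c * s * c⁻¹ = MulAut.conj c s from rfl, ← h1]
  exact Subgroup.card_map_of_injective (MulAut.conj c).injective

theorem fix_conj {s t : Cfsg.Spor.He} (h : IsConj s t) :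
    Nat.card ({i | phi s i = i} : Set (Fin 2058)) = Nat.card ({i | phi t i = i} : Set (Fin 2058)) := by
  obtain ⟨c, rfl⟩ := isConj_iff.1 h
  refine Nat.card_congr ⟨fun i => ⟨phi c i, ?_⟩, fun i => ⟨phi c⁻¹ i, ?_⟩, fun i => ?_, fun i => ?_⟩
  · have h1 : phi s (i : Fin 2058) = i := i.2
    show phi (c * s * c⁻¹) (phi c (i : Fin 2058)) = phi c i
    rw [map_mul, map_mul, map_inv, Equiv.Perm.mul_apply, Equiv.Perm.mul_apply, inv_app, h1]
  · obtain ⟨i, hi⟩ := i
    have h1 : phi (c * s * c⁻¹) i = i := hi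
    show phi s (phi c⁻¹ i) = phi c⁻¹ i
    rw [map_mul, map_mul, Equiv.Perm.mul_apply, Equiv.Perm.mul_apply] at h1
    rw [map_inv] at h1 ⊢
    apply (phi c).injective
    rw [h1, app_inv]
  · apply Subtype.ext
    show phi c⁻¹ (phi c (i : Fin 2058)) = i
    rw [map_inv, inv_app]
  · apply Subtype.ext
    show phi c (phi c⁻¹ (i : Fin 2058)) = i
    rw [map_inv, app_inv]

theorem card_fix (v : List Gen) : Nat.card ({i | phi (wd v) i = i} : Set (Fin 2058)) = cnt 2058 (tst v v) := by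
  refine card_eq fun i => ?_
  show phi (wd v) i = i ↔ and (Nat.beq (act v i) i) (Nat.beq (act v i) i) = true
  rw [Bool.and_self, Nat.beq_eq, ← phi_wd_apply, Fin.val_inj]

theorem not_conj_ae : ¬ IsConj (gn .a) (gn .e) := by
  intro h
  have h1 := fix_conj h
  rw [← wd_one .a, ← wd_one .e, card_fix, card_fix, cnt_a, cnt_e] at h1
  norm_num at h1

theorem conj_ze : IsConj CTwoTab.He.z (gn .e) := by
  have h1 : gn .e * gn .e = 1 := by
    have h := eq_of_chkB (v := [.e, .e]) (w := []) (by decide +kernel)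
    simpa only [wd_cons, wd_nil, mul_one] using h
  have h2 : gn .e ≠ 1 := by
    intro h
    have h3 := card_fix [.e]
    rw [wd_one, h, map_one, cnt_e] at h3
    simp at h3
  exact (CTwoTab.He.classes h1 h2).resolve_right not_conj_ae

theorem even_e : Even (Nat.card (Sylow 7 (centralizer ({gn .e} : Set Cfsg.Spor.He)))) := by
  have hfin := Cfsg.Agent.KFacts.He.Hyp.finHe
  rw [← wd_one]
  have h1 : Nat.card (centralizer ({wd [.e]} : Set Cfsg.Spor.He)) = 21504 := by
    rw [wd_one, card_conj conj_ze]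
    exact KFacts.He.Cent.card_cent
  refine even_word cnt_eab (by norm_num) (fac_one ?_ (Or.inr ?_)) ab_four comm_ab
  · rw [h1]; norm_num
  · rw [h1]

/-- **the involutions of `He`** -/
theorem even_he' {τ : Cfsg.Spor.He} (hτ : orderOf τ = 2) :
    Even (Nat.card (Sylow 7 (centralizer ({τ} : Set Cfsg.Spor.He)))) := by
  have hfin := Cfsg.Agent.KFacts.He.Hyp.finHe
  have hp : Fact (Nat.Prime 7) := ⟨by norm_num⟩
  have h3 : τ * τ = 1 := by rw [← pow_two, ← hτ, pow_orderOf_eq_one]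
  have h4 : τ ≠ 1 := by
    intro h5
    rw [h5, orderOf_one] at hτ
    norm_num at hτ
  rcases CTwoTab.He.classes h3 h4 with hc | hc
  · exact H710.PSq.even_cent_of_isConj (conj_ze.symm.trans hc) even_e
  · exact H710.PSq.even_cent_of_isConj hc even_a

theorem even_he {H : Type*} [Group H] [Finite H] (h : Spor.IsoHe H) {τ : H} (hτ : orderOf τ = 2) :
    Even (Nat.card (Sylow 7 (centralizer ({τ} : Set H)))) := by
  have hfin := Cfsg.Agent.KFacts.He.Hyp.finHe
  have hp : Fact (Nat.Prime 7) := ⟨by norm_num⟩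
  obtain ⟨e⟩ := h
  have h1 := H710.PSq.even_cent_of_equiv (p := 7) e.symm (x := e τ)
    (even_he' (by rw [MulEquiv.orderOf_eq, hτ]))
  rwa [e.symm_apply_apply] at h1

end Cfsg.Agent.H189.Psq.HeInv
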