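import Mathlib

/-!
# Sylow numbers and central quotients (helper189, S4844)

* `card_sylow_central` : a surjective homomorphism with central kernel preserves the number of Sylow `p`-subgroups;
* `card_sylow_cent` : `#Syl_p (C_H(t)) = #Syl_p (C_{H/Z}(t))`, `Z` central, `(|Z|, |t|) = 1`.
-/

set_option autoImplicit false

namespace Cfsg.Agent.H189.Psq.Lift

open Subgroup

theorem card_sylow_central {G H : Type*} [Group G] [Finite G] [Group H] {p : ℕ} [Fact p.Prime] (f : G →* H)
    (hf : Function.Surjective f) (hk : f.ker ≤ center G) : Nat.card (Sylow p G) = Nat.card (Sylow p H) := by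
  refine Nat.card_congr (Equiv.ofBijective (Sylow.mapSurjective hf (p := p)) ⟨?_, Sylow.mapSurjective_surjective hf p⟩)
  intro P Q hPQ
  have h1 : (P : Subgroup G).map f = (Q : Subgroup G).map f := by
    have h2 := congrArg (fun R : Sylow p H => (R : Subgroup H)) hPQ
    simpa only [Sylow.coe_mapSurjective] using h2
  have h2 : (P : Subgroup G) ⊔ f.ker = (Q : Subgroup G) ⊔ f.ker := by
    rw [← Subgroup.comap_map_eq, ← Subgroup.comap_map_eq, h1]
  set N : Subgroup G := (P : Subgroup G) ⊔ f.ker with hN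
  have hPN : (P : Subgroup G) ≤ N := le_sup_left
  have hQN : (Q : Subgroup G) ≤ N := by rw [h2]; exact le_sup_left
  have h3 : N ≤ normalizer ((P : Subgroup G) : Set G) := by
    refine sup_le le_normalizer ?_
    intro k hkk
    have hc := mem_center_iff.1 (hk hkk)
    rw [mem_normalizer_iff]
    intro g
    rw [← hc g, mul_inv_cancel_right]
  have hn : ((P.subtype hPN : Sylow p N) : Subgroup N).Normal := by
    rw [Sylow.coe_subtype]
    exact (normal_subgroupOf_iff_le_normalizer hPN).2 h3
  have hs : Subsingleton (Sylow p N) := (Sylow.unique_of_normal (P.subtype hPN) hn).instSubsingleton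
  exact Sylow.subtype_injective (hP := hPN) (hQ := hQN) (Subsingleton.elim _ _)

variable {H : Type*} [Group H] {Z : Subgroup H} [Z.Normal]

/-- the map of centralizers -/
def centMap (Z : Subgroup H) [Z.Normal] (t : H) :
    centralizer ({t} : Set H) →* centralizer ({(QuotientGroup.mk t : H ⧸ Z)} : Set (H ⧸ Z)) :=
  ((QuotientGroup.mk' Z).comp (centralizer ({t} : Set H)).subtype).codRestrict _ fun g => by
    rw [mem_centralizer_singleton_iff]
    exact congrArg (QuotientGroup.mk (s := Z)) (mem_centralizer_singleton_iff.1 g.2)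

theorem centMap_surjective [Finite Z] (hZ : Z ≤ center H) {n : ℕ} (hn : (Nat.card Z).Coprime n) {t : H}
    (ht : t ^ n = 1) : Function.Surjective (centMap Z t) := by
  rintro ⟨g, hg⟩
  obtain ⟨g, rfl⟩ := QuotientGroup.mk_surjective g
  have h1 : (QuotientGroup.mk g : H ⧸ Z) * QuotientGroup.mk t = QuotientGroup.mk t * QuotientGroup.mk g :=
    mem_centralizer_singleton_iff.1 hg
  have h2 : (t * g)⁻¹ * (g * t) ∈ Z := by
    rw [← QuotientGroup.eq]
    exact h1.symm
  set z : H := (t * g)⁻¹ * (g * t) with hz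
  have hzc := mem_center_iff.1 (hZ h2)
  have h3 : g * t = t * g * z := by rw [hz]; group
  have h4 : g * t * g⁻¹ = t * z := by
    rw [h3, mul_assoc t g z, hzc g, ← mul_assoc, mul_inv_cancel_right]
  have h5 : z ^ n = 1 := by
    have hc : Commute t z := hzc t
    have h6 : (g * t * g⁻¹) ^ n = t ^ n * z ^ n := by rw [h4, hc.mul_pow]
    rw [conj_pow, ht, mul_one, mul_inv_cancel, one_mul] at h6
    exact h6.symm
  have h6 : z ^ Nat.card Z = 1 := by
    have h7 : (⟨z, h2⟩ : Z) ^ Nat.card Z = 1 := pow_card_eq_one'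
    exact congrArg Subtype.val h7
  have h7 : z = 1 := by
    rw [← orderOf_eq_one_iff]
    have h8 := Nat.dvd_gcd (orderOf_dvd_of_pow_eq_one h6) (orderOf_dvd_of_pow_eq_one h5)
    rw [hn] at h8
    exact Nat.dvd_one.1 h8
  rw [h7, mul_one] at h3
  exact ⟨⟨g, mem_centralizer_singleton_iff.2 h3⟩, rfl⟩

theorem centMap_ker (hZ : Z ≤ center H) (t : H) : (centMap Z t).ker ≤ center _ := by
  intro g hg
  rw [mem_center_iff]
  intro k
  have h1 : (QuotientGroup.mk (g : H) : H ⧸ Z) = 1 := congrArg Subtype.val (MonoidHom.mem_ker.1 hg)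
  exact Subtype.ext (mem_center_iff.1 (hZ ((QuotientGroup.eq_one_iff _).1 h1)) k)

theorem card_sylow_cent [Finite H] (hZ : Z ≤ center H) {n : ℕ} (hn : (Nat.card Z).Coprime n) {t : H}
    (ht : t ^ n = 1) (p : ℕ) [Fact p.Prime] : Nat.card (Sylow p (centralizer ({t} : Set H))) =
      Nat.card (Sylow p (centralizer ({(QuotientGroup.mk t : H ⧸ Z)} : Set (H ⧸ Z)))) :=
  card_sylow_central (centMap Z t) (centMap_surjective hZ hn ht) (centMap_ker hZ t)

end Cfsg.Agent.H189.Psq.Lift
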