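import Mathlib

/-!
# S4844 (TEAM PSQ): a parity argument (helper189)

* `parity` : an affine plane with an even number of directions, weights `w`, numbers `c X` all even and the line equations
  `∏ w = 1 + c X ∑ (w - 1)`: all weights are `1`.
-/

set_option autoImplicit false
set_option linter.unusedSectionVars false

namespace Cfsg.Agent.H189.Psq

open Finset

universe u v

/-- `∏ (1 + M v) ≡ 1 + M ∑ v` modulo `2 M`, `M` even -/
theorem prod_modEq {ι : Type u} {M : ℕ} (hM : 2 ∣ M) (s : Finset ι) (v : ι → ℕ) :
    ∏ b ∈ s, (1 + M * v b) ≡ 1 + M * ∑ b ∈ s, v b [MOD 2 * M] := by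
  classical
  induction s using Finset.induction_on with
  | empty => simp; rfl
  | insert a s ha ih =>
    rw [prod_insert ha, sum_insert ha]
    have h1 : (1 + M * v a) * ∏ b ∈ s, (1 + M * v b) ≡ (1 + M * v a) * (1 + M * ∑ b ∈ s, v b) [MOD 2 * M] :=
      Nat.ModEq.mul_left _ ih
    refine h1.trans ?_
    obtain ⟨k, hk⟩ := hM
    have h2 : (1 + M * v a) * (1 + M * ∑ b ∈ s, v b) =
        1 + M * (v a + ∑ b ∈ s, v b) + 2 * M * (k * (v a * ∑ b ∈ s, v b)) := by
      have h3 : M * M = 2 * M * k := by
        nth_rw 2 [hk]
        ring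
      calc (1 + M * v a) * (1 + M * ∑ b ∈ s, v b) =
          1 + M * (v a + ∑ b ∈ s, v b) + (M * M) * (v a * ∑ b ∈ s, v b) := by ring
        _ = _ := by rw [h3]; ring
    rw [h2]
    unfold Nat.ModEq
    rw [Nat.add_mul_mod_self_left]

section

variable {ι : Type u} {κ : Type v} [Fintype ι] [Fintype κ] [DecidableEq ι] (rel : κ → ι → ι → Prop)
  [∀ X a b, Decidable (rel X a b)]

/-- a set which meets every line in an even number of points is empty -/
theorem empty_of_even (hκ : Even (Fintype.card κ)) (hκ0 : Nonempty κ) (he : ∀ X, Equivalence (rel X))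
    (hu : ∀ a b, a ≠ b → ∃! X, rel X a b) (T : Finset ι) (hT : ∀ X a, Even (T.filter fun b => rel X a b).card) :
    T = ∅ := by
  classical
  by_contra hne
  obtain ⟨t, ht⟩ := Finset.nonempty_iff_ne_empty.2 hne
  -- `|T|` is even
  have h1 : Even T.card := by
    obtain ⟨X⟩ := hκ0
    let st : Setoid ι := ⟨rel X, he X⟩
    have h2 : T.card = ∑ y ∈ T.image (fun b => (Quotient.mk st b)), (T.filter fun b => Quotient.mk st b = y).card :=
      card_eq_sum_card_image _ T
    rw [h2]
    apply Finset.even_sum
    intro y hy
    obtain ⟨a, ha, rfl⟩ := mem_image.1 hy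
    have h3 : (T.filter fun b => Quotient.mk st b = Quotient.mk st a) = T.filter fun b => rel X a b := by
      ext b
      simp only [mem_filter, and_congr_right_iff]
      intro _
      rw [Quotient.eq]
      exact ⟨fun h => (he X).symm h, fun h => (he X).symm h⟩
    rw [h3]
    exact hT X a
  -- `|T|` is odd
  have h2 : Even (T.erase t).card := by
    have h3 : (T.erase t) = (univ : Finset κ).biUnion fun X => (T.erase t).filter fun b => rel X t b := by
      ext b
      simp only [mem_biUnion, mem_filter, mem_univ, true_and]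
      constructor
      · intro hb
        obtain ⟨X, hX, -⟩ := hu t b (ne_of_mem_erase hb).symm
        exact ⟨X, hb, hX⟩
      · rintro ⟨X, hb, -⟩
        exact hb
    rw [h3, card_biUnion]
    · have h4 : ∀ X ∈ (univ : Finset κ), Odd ((T.erase t).filter fun b => rel X t b).card := by
        intro X _
        have h5 : (T.filter fun b => rel X t b) = insert t ((T.erase t).filter fun b => rel X t b) := by
          ext b
          simp only [mem_filter, mem_insert, mem_erase]
          constructor
          · rintro ⟨h6, h7⟩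
            by_cases hb : b = t
            · exact Or.inl hb
            · exact Or.inr ⟨⟨hb, h6⟩, h7⟩
          · rintro (rfl | ⟨⟨-, h6⟩, h7⟩)
            · exact ⟨ht, (he X).refl _⟩
            · exact ⟨h6, h7⟩
        have h6 := hT X t
        rw [h5, card_insert_of_notMem (by simp)] at h6
        exact (Nat.even_add_one.1 h6) |> Nat.not_even_iff_odd.1
      have h5 := Finset.even_sum_iff_even_card_odd (s := (univ : Finset κ))
        (fun X => ((T.erase t).filter fun b => rel X t b).card)
      rw [h5, filter_true_of_mem h4]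
      exact hκ
    · intro X _ Y _ hXY
      rw [Function.onFun, Finset.disjoint_left]
      intro b hb hb'
      simp only [mem_filter, mem_erase] at hb hb'
      exact hXY ((hu t b (Ne.symm hb.1.1)).unique hb.2 hb'.2)
  rw [card_erase_of_mem ht] at h2
  have h3 : 0 < T.card := card_pos.2 ⟨t, ht⟩
  obtain ⟨k, hk⟩ := h1
  obtain ⟨l, hl⟩ := h2
  omega

/-- **Parity.** -/
theorem parity (hκ : Even (Fintype.card κ)) (hκ0 : Nonempty κ) (he : ∀ X, Equivalence (rel X))
    (hu : ∀ a b, a ≠ b → ∃! X, rel X a b) (w : ι → ℕ) (hw : ∀ a, 1 ≤ w a) (c : κ → ℕ) (hc : ∀ X, Even (c X))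
    (hL : ∀ X a, ∏ b with rel X a b, w b = 1 + c X * ∑ b with rel X a b, (w b - 1)) (a : ι) : w a = 1 := by
  classical
  -- all weights are odd
  have h1 : ∀ b, 2 ^ 1 ∣ w b - 1 := by
    intro b
    obtain ⟨X⟩ := hκ0
    have h2 : Odd (∏ d with rel X b d, w d) := by
      rw [hL X b, add_comm]
      exact ((hc X).mul_right _).add_one
    have h3 : Odd (w b) := by
      rw [← mul_prod_erase (univ.filter fun d => rel X b d) w (mem_filter.2 ⟨mem_univ b, (he X).refl b⟩)] at h2
      exact (Nat.odd_mul.1 h2).1
    rw [pow_one]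
    exact even_iff_two_dvd.1 (Nat.Odd.sub_odd h3 odd_one)
  -- the step
  have h2 : ∀ e : ℕ, ∀ b, 2 ^ (e + 1) ∣ w b - 1 := by
    intro e
    induction e with
    | zero => exact h1
    | succ e ih =>
      choose v hv using ih
      have hwv : ∀ b, w b = 1 + 2 ^ (e + 1) * v b := fun b => by
        have := hw b
        have := hv b
        omega
      have hM : 2 ∣ 2 ^ (e + 1) := dvd_pow_self 2 (Nat.succ_ne_zero e)
      let T : Finset ι := univ.filter fun b => Odd (v b)
      have hT : T = ∅ := by
        refine empty_of_even rel hκ hκ0 he hu T fun X a => ?_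
        have h3 : (T.filter fun b => rel X a b) = ((univ.filter fun b => rel X a b).filter fun b => Odd (v b)) := by
          ext b
          simp only [T, mem_filter, mem_univ, true_and]
          exact and_comm
        rw [h3, ← Finset.even_sum_iff_even_card_odd]
        have h4 := prod_modEq hM (univ.filter fun b => rel X a b) v
        have h5 : ∏ b with rel X a b, (1 + 2 ^ (e + 1) * v b) = 1 + c X * ∑ b with rel X a b, (2 ^ (e + 1) * v b) := by
          have h6 := hL X a
          rw [prod_congr rfl (fun b _ => hwv b)] at h6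
          rw [h6]
          congr 2
          refine sum_congr rfl fun b _ => ?_
          have := hv b
          omega
        rw [h5, ← mul_sum] at h4
        obtain ⟨k, hk⟩ := hc X
        have h6 : c X * (2 ^ (e + 1) * ∑ b with rel X a b, v b) = 2 * 2 ^ (e + 1) * (k * ∑ b with rel X a b, v b) := by
          rw [hk]; ring
        rw [h6] at h4
        have h7 : 1 + 2 ^ (e + 1) * ∑ b with rel X a b, v b ≡ 1 + 2 ^ (e + 1) * 0 [MOD 2 * 2 ^ (e + 1)] := by
          refine h4.symm.trans ?_
          unfold Nat.ModEq
          rw [Nat.add_mul_mod_self_left]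
          simp
        have h8 := Nat.ModEq.add_left_cancel' 1 h7
        rw [mul_zero, Nat.modEq_zero_iff_dvd, mul_comm 2] at h8
        exact even_iff_two_dvd.2 (Nat.dvd_of_mul_dvd_mul_left (by positivity) h8)
      intro b
      have h3 : ¬ Odd (v b) := fun h => by
        have : b ∈ T := mem_filter.2 ⟨mem_univ b, h⟩
        rw [hT] at this
        exact notMem_empty b this
      obtain ⟨k, hk⟩ := even_iff_two_dvd.1 (Nat.not_odd_iff_even.1 h3)
      rw [hv b, hk, pow_succ 2 (e + 1)]
      exact ⟨k, by ring⟩
  have h3 := h2 (w a) a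
  have h4 : w a < 2 ^ (w a + 1) := (Nat.lt_two_pow_self).trans (Nat.pow_lt_pow_right (by norm_num) (Nat.lt_succ_self _))
  have h5 : w a - 1 = 0 := by
    by_contra h
    have := Nat.le_of_dvd (by omega) h3
    omega
  have := hw a
  omega

end

end Cfsg.Agent.H189.Psq
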