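import Cfsg.Agent.H696.PSq.DefsE
import Cfsg.Agent.H976.PSq.Struct
import Cfsg.Agent.H189.Psq.Par

/-!
# S4844 (TEAM PSQ): even numbers of Sylow subgroups (helper189)

* `card_sylow_normal`, `card_sylow_dvd` : numbers of Sylow `p`-subgroups of normal subgroups and of quotients;
* `Eqs.false_of_even` : the equations are contradictory if all numbers `cX` are even;
* `even_case` : the situation with a quotient `S` satisfying `EvenC p S`.
-/

set_option autoImplicit false
set_option linter.unusedSectionVars false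

namespace Cfsg.Agent.H189.Psq

open Cfsg Subgroup Cfsg.Agent.H696.PSq
open scoped commutatorElement

universe u v

section sylow

variable {p : ℕ} [hp : Fact p.Prime] {G : Type u} [Group G] [Finite G]

/-- a normal subgroup which contains a Sylow `p`-subgroup has the same number of Sylow `p`-subgroups -/
theorem card_sylow_normal (N : Subgroup G) [hN : N.Normal] (P : Sylow p G) (hP : (P : Subgroup G) ≤ N) :
    Nat.card (Sylow p N) = Nat.card (Sylow p G) := by
  have hall : ∀ Q : Sylow p G, (Q : Subgroup G) ≤ N := by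
    intro Q
    obtain ⟨g, rfl⟩ := MulAction.exists_smul_eq G P Q
    rw [Sylow.coe_subgroup_smul]
    rintro _ ⟨x, hx, rfl⟩
    exact hN.conj_mem x (hP hx) g
  symm
  refine Nat.card_congr (Equiv.ofBijective (fun Q : Sylow p G => Q.subtype (hall Q)) ⟨?_, ?_⟩)
  · intro Q R h
    exact Sylow.subtype_injective h
  · intro R
    obtain ⟨Q, hQ⟩ := (R.isPGroup'.map N.subtype).exists_le_sylow
    refine ⟨Q, ?_⟩
    apply Sylow.ext
    symm
    refine (R.is_maximal' (Q.subtype (hall Q)).isPGroup' ?_).symm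
    intro x hx
    exact hQ ⟨x, hx, rfl⟩

/-- the number of Sylow `p`-subgroups of a quotient divides the number of Sylow `p`-subgroups -/
theorem card_sylow_dvd {H : Type v} [Group H] [Finite H] (φ : G →* H) (hφ : Function.Surjective φ) :
    Nat.card (Sylow p H) ∣ Nat.card (Sylow p G) := by
  obtain ⟨P⟩ : Nonempty (Sylow p G) := inferInstance
  let Q : Sylow p H := P.mapSurjective hφ
  have hQ : (Q : Subgroup H) = (P : Subgroup G).map φ := rfl
  rw [Sylow.card_eq_index_normalizer P, Sylow.card_eq_index_normalizer Q,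
    ← Subgroup.index_comap_of_surjective _ hφ]
  apply Subgroup.index_dvd_of_le
  intro g hg
  rw [mem_comap]
  change φ g ∈ normalizer ((Q : Subgroup H) : Set H)
  change g ∈ normalizer ((P : Subgroup G) : Set G) at hg
  rw [mem_normalizer_iff]
  intro h
  rw [hQ]
  constructor
  · rintro ⟨x, hx, rfl⟩
    refine ⟨g * x * g⁻¹, (mem_normalizer_iff.1 hg x).1 hx, ?_⟩
    rw [map_mul, map_mul, map_inv]
  · rintro ⟨x, hx, hxh⟩
    refine ⟨g⁻¹ * x * g, ?_, ?_⟩
    · rw [SetLike.mem_coe, mem_normalizer_iff.1 hg]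
      have : g * (g⁻¹ * x * g) * g⁻¹ = x := by group
      rw [this]
      exact hx
    · rw [map_mul, map_mul, map_inv, hxh]
      group

end sylow

section eqs

variable {p : ℕ} [hp : Fact p.Prime] {C : Type u} [Group C] [Finite C] {W : Type v} [CommGroup W]
  [MulDistribMulAction C W] {A P : Subgroup C}

/-- The equations are contradictory if all numbers `cX` are even. -/
theorem false_of_even (hp2 : p ≠ 2) (E : Eqs p W A P) (hev : ∀ X : Dir p P A, Even (cX p (X : Subgroup C))) : False := by
  classical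
  have : Fintype (Pt p P A) := Fintype.ofFinite _
  have : Fintype (Dir p P A) := Fintype.ofFinite _
  have hκ : Fintype.card (Dir p P A) = p + 1 := by rw [← Nat.card_eq_fintype_card]; exact E.cardDir
  have hι : Fintype.card (Pt p P A) = p ^ 2 := by rw [← Nat.card_eq_fintype_card]; exact E.cardPt
  have hPt : Nonempty (Pt p P A) := by
    rw [← Fintype.card_pos_iff, hι]
    exact pow_pos hp.out.pos 2
  have hDir : Nonempty (Dir p P A) := by
    rw [← Fintype.card_pos_iff, hκ]
    omega
  set rel : Dir p P A → Pt p P A → Pt p P A → Prop :=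
    fun X a b => (b : Subgroup C) ⊓ X = (a : Subgroup C) ⊓ X with hrel
  have he : ∀ X, Equivalence (rel X) := fun X =>
    ⟨fun a => rfl, fun h => h.symm, fun h h' => h'.trans h⟩
  have hu : ∀ a b, a ≠ b → ∃! X, rel X a b := fun a b hab => E.rel b a (Ne.symm hab)
  have hL : ∀ X a, ∏ b with rel X a b, wt W (b : Subgroup C) =
      1 + cX p (X : Subgroup C) * ∑ b with rel X a b, (wt W (b : Subgroup C) - 1) := by
    intro X a
    have h := E.line X a
    rw [finprod_eq_prod_of_fintype, finsum_eq_sum_of_fintype] at h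
    rw [Finset.prod_filter, Finset.sum_filter]
    convert h
  obtain ⟨X₀⟩ := hDir
  obtain ⟨R₀⟩ := hPt
  obtain ⟨b, hb, -⟩ := E.noncol X₀ R₀
  refine hb (parity rel (by rw [hκ]; exact (hp.out.odd_of_ne_two hp2).add_one) ⟨X₀⟩ he hu
    (fun R : Pt p P A => wt W (R : Subgroup C)) (fun a => ?_) (fun X => cX p (X : Subgroup C)) hev hL b)
  rcases E.wt_or a with h | h <;> omega

end eqs

section cent

variable {p : ℕ} [hp : Fact p.Prime] {G : Type u} [Group G] [Finite G] {S : Type v} [Group S] [Finite S]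

/-- A subgroup of order `p ^ 2` which contains the central subgroup `A` of order `p`. -/
theorem eq_sup {A X : Subgroup G} (hAX : A ≤ X) (hA : Nat.card A = p) (hX : Nat.card X = p ^ 2) {b : G} (hb : b ∈ X)
    (hbA : b ∉ A) : A ⊔ zpowers b = X := by
  have h1 : A ⊔ zpowers b ≤ X := sup_le hAX ((zpowers_le).2 hb)
  have h2 : Nat.card (A ⊔ zpowers b : Subgroup G) ∣ p ^ 2 := hX ▸ card_dvd_of_le h1
  obtain ⟨k, hk, hk2⟩ := (Nat.dvd_prime_pow hp.out).1 h2
  have h3 : A < A ⊔ zpowers b := by
    refine lt_of_le_of_ne le_sup_left fun h => hbA ?_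
    rw [h]
    exact mem_sup_right (mem_zpowers b)
  have h4 : p < Nat.card (A ⊔ zpowers b : Subgroup G) := by
    rw [← hA]
    by_contra hcon
    exact h3.ne (eq_of_le_of_card_ge h3.le (not_lt.1 hcon))
  have h5 : k = 2 := by
    rcases (by omega : k = 0 ∨ k = 1 ∨ k = 2) with h | h | h
    · rw [hk2, h, pow_zero] at h4
      have := hp.out.pos
      omega
    · rw [hk2, h, pow_one] at h4
      omega
    · exact h
  refine eq_of_le_of_card_ge h1 ?_
  rw [hX, hk2, h5]

/-- **the centralizer of `X` covers the centralizer of `f b`** -/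
theorem exists_lift (f : G →* S) (hf : Function.Surjective f) (P : Sylow p G) (hPc : IsMulCommutative (P : Subgroup G))
    (hk : ¬ p ^ 2 ∣ Nat.card f.ker) {A X : Subgroup G} (hAc : A ≤ center G) (hA : Nat.card A = p) (hAf : A ≤ f.ker)
    (hAX : A ≤ X) (hX : Nat.card X = p ^ 2) {b : G} (hb : b ∈ X) (hbA : b ∉ A) {s : S} (hs : s * f b = f b * s) :
    ∃ y ∈ centralizer (X : Set G), f y = s := by
  classical
  have hXp : IsPGroup p X := IsPGroup.of_card hX
  -- `X ⊓ ker f = A`
  have hXk : X ⊓ f.ker = A := by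
    symm
    refine eq_of_le_of_card_ge (le_inf hAX hAf) ?_
    have h1 : IsPGroup p (X ⊓ f.ker : Subgroup G) := hXp.to_le inf_le_left
    obtain ⟨k, hk'⟩ := IsPGroup.iff_card.1 h1
    have h2 : Nat.card (X ⊓ f.ker : Subgroup G) ∣ Nat.card f.ker := card_dvd_of_le inf_le_right
    have h3 : k ≤ 1 := by
      by_contra hcon
      exact hk ((pow_dvd_pow p (by omega : 2 ≤ k)).trans (hk' ▸ h2))
    rw [hk', hA]
    calc p ^ k ≤ p ^ 1 := Nat.pow_le_pow_right hp.out.pos h3
      _ = p := pow_one p
  have hbk : f b ≠ 1 := fun h => hbA (by rw [← hXk]; exact ⟨hb, h⟩)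
  obtain ⟨x, rfl⟩ := hf s
  -- the preimage of `⟨f b⟩`
  set M : Subgroup G := (zpowers (f b)).comap f with hM
  have hcardM : Nat.card M = Nat.card (zpowers (f b)) * Nat.card f.ker := by
    have h1 : (M : Subgroup G).index = (zpowers (f b)).index := index_comap_of_surjective _ hf
    have h2 := card_mul_index M
    have h3 := card_mul_index (zpowers (f b))
    have h4 : Nat.card f.ker * Nat.card S = Nat.card G := by
      have := card_mul_index f.ker
      rwa [index_ker, MonoidHom.range_eq_top.2 hf, card_top] at this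
    have h5 : (zpowers (f b)).index ≠ 0 := index_ne_zero_of_finite
    rw [h1] at h2
    apply Nat.eq_of_mul_eq_mul_right (Nat.pos_of_ne_zero h5)
    rw [h2, ← h4, ← h3]
    ring
  have hXM : X ≤ M := by
    rw [← eq_sup hAX hA hX hb hbA]
    refine sup_le ?_ ?_
    · intro a ha
      rw [hM, mem_comap, show f a = 1 from hAf ha]
      exact one_mem _
    · rw [zpowers_le, hM, mem_comap]
      exact mem_zpowers _
  have hfb : ∀ t ∈ X, f t ∈ zpowers (f b) := fun t ht => hXM ht
  -- order of `f b`
  have hob : Nat.card (zpowers (f b)) = p := by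
    have h1 : (f b) ∈ X.map f := mem_map_of_mem f hb
    have h2 : Nat.card (X.map f) ∣ p := by
      -- `X / A`
      have h3 : Nat.card (X.map f) * Nat.card (f.ker ⊓ X : Subgroup G) = Nat.card X := by
        have h4 := card_mul_index ((f.comp X.subtype).ker)
        rw [index_ker] at h4
        have h5 : (f.comp X.subtype).range = X.map f := by
          rw [MonoidHom.range_comp, range_subtype]
        have h6 : Nat.card (f.comp X.subtype).ker = Nat.card (f.ker ⊓ X : Subgroup G) := by
          have h7 : (f.comp X.subtype).ker = f.ker.subgroupOf X := rfl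
          rw [h7]
          exact Nat.card_congr (subgroupOfEquivOfLe (inf_le_right : f.ker ⊓ X ≤ X)).toEquiv |>.symm ▸ (by
            rw [inf_subgroupOf_right])
        rw [h5, h6, mul_comm] at h4
        exact h4
      rw [inf_comm, hXk, hA, hX, pow_two] at h3
      exact (Nat.eq_of_mul_eq_mul_right hp.out.pos h3).dvd
    have h3 : Nat.card (zpowers (f b)) ∣ p := (card_dvd_of_le (zpowers_le.2 h1)).trans h2
    rcases (Nat.dvd_prime hp.out).1 h3 with h4 | h4
    · exfalso
      rw [Nat.card_zpowers, orderOf_eq_one_iff] at h4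
      exact hbk h4
    · exact h4
  have hXidx : ¬ p ∣ (X.subgroupOf M).index := by
    intro h
    have h1 := card_mul_index (X.subgroupOf M)
    rw [Nat.card_congr (subgroupOfEquivOfLe hXM).toEquiv, hX, hcardM, hob] at h1
    obtain ⟨c, hc⟩ := h
    rw [hc] at h1
    apply hk
    refine ⟨c, ?_⟩
    apply Nat.eq_of_mul_eq_mul_left hp.out.pos
    rw [← h1]
    ring
  let X1 : Sylow p M := (hXp.comap_subtype (K := M)).toSylow hXidx
  -- the conjugate
  let X' : Subgroup G := X.map (MulAut.conj x⁻¹).toMonoidHom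
  have hX'M : X' ≤ M := by
    rintro _ ⟨t, ht, rfl⟩
    rw [hM, mem_comap]
    change f (x⁻¹ * t * x⁻¹⁻¹) ∈ _
    obtain ⟨k, hk⟩ := mem_zpowers_iff.1 (hfb t ht)
    rw [map_mul, map_mul, inv_inv, map_inv, ← hk]
    have h1 : Commute (f x) (f b) := hs
    have h2 : (f x)⁻¹ * (f b) ^ k * f x = (f b) ^ k := by
      rw [mul_assoc, ← (h1.zpow_right k).eq, inv_mul_cancel_left]
    rw [h2]
    exact zpow_mem (mem_zpowers _) k
  have hX'c : Nat.card X' = Nat.card X := (Nat.card_congr (X.equivMapOfInjective _ (MulAut.conj x⁻¹).injective).toEquiv).symm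
  have hX'p : IsPGroup p X' := IsPGroup.of_card (hX'c.trans hX)
  have hX'idx : ¬ p ∣ (X'.subgroupOf M).index := by
    intro h
    apply hXidx
    have h1 := card_mul_index (X.subgroupOf M)
    have h2 := card_mul_index (X'.subgroupOf M)
    rw [Nat.card_congr (subgroupOfEquivOfLe hXM).toEquiv] at h1
    rw [Nat.card_congr (subgroupOfEquivOfLe hX'M).toEquiv, hX'c] at h2
    have h3 : (X.subgroupOf M).index = (X'.subgroupOf M).index :=
      Nat.eq_of_mul_eq_mul_left Nat.card_pos (h1.trans h2.symm)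
    rwa [h3]
  let X2 : Sylow p M := (hX'p.comap_subtype (K := M)).toSylow hX'idx
  obtain ⟨m, hm⟩ := MulAction.exists_smul_eq M X2 X1
  -- `m x⁻¹` normalizes `X`
  have hmX : ∀ t ∈ X, (m : G) * (x⁻¹ * t * x) * (m : G)⁻¹ ∈ X := by
    intro t ht
    have h1 : (x⁻¹ * t * x) ∈ X' := ⟨t, ht, by change x⁻¹ * t * x⁻¹⁻¹ = _; rw [inv_inv]⟩
    have h2 : (⟨x⁻¹ * t * x, hX'M h1⟩ : M) ∈ (X2 : Subgroup M) := h1
    have h3 : m * ⟨x⁻¹ * t * x, hX'M h1⟩ * m⁻¹ ∈ ((m • X2 : Sylow p M) : Subgroup M) := by
      rw [Sylow.coe_subgroup_smul]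
      exact ⟨_, h2, rfl⟩
    rw [hm] at h3
    exact h3
  obtain ⟨j, hj⟩ := mem_zpowers_iff.1 (show f (m : G) ∈ zpowers (f b) from m.2)
  -- the element
  set y : G := x * (m : G)⁻¹ * b ^ j with hy
  have hfy : f y = f x := by
    rw [hy, map_mul, map_mul, map_inv, map_zpow, ← hj]
    group
  have hyX : y⁻¹ * b * y ∈ X := by
    have h1 := hmX b hb
    have h2 : y⁻¹ * b * y = (b ^ j)⁻¹ * ((m : G) * (x⁻¹ * b * x) * (m : G)⁻¹) * b ^ j := by
      rw [hy]
      group
    rw [h2]
    exact X.mul_mem (X.mul_mem (X.inv_mem (X.zpow_mem hb j)) h1) (X.zpow_mem hb j)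
  have hz : b⁻¹ * (y⁻¹ * b * y) ∈ A := by
    rw [← hXk]
    refine ⟨X.mul_mem (X.inv_mem hb) hyX, ?_⟩
    change f (b⁻¹ * (y⁻¹ * b * y)) = 1
    rw [map_mul, map_mul, map_mul, map_inv, map_inv, hfy]
    have h1 : Commute (f x) (f b) := hs
    have h2 : (f x)⁻¹ * f b * f x = f b := by
      rw [mul_assoc, ← h1.eq, inv_mul_cancel_left]
    rw [h2, inv_mul_cancel]
  have hz1 : b⁻¹ * (y⁻¹ * b * y) = 1 := by
    refine H976.PSq.inf_center P hPc (hAc hz) ?_ (k := 1) ?_
    · have h1 : b⁻¹ * (y⁻¹ * b * y) = ⁅b⁻¹, y⁻¹⁆ := by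
        rw [commutatorElement_def]
        group
      rw [h1]
      exact commutator_mem_commutator (mem_top _) (mem_top _)
    · rw [pow_one]
      have h1 := pow_card_eq_one' (G := A) (x := ⟨_, hz⟩)
      rw [hA] at h1
      exact congrArg Subtype.val h1
  refine ⟨y, ?_, hfy⟩
  have hyb : b * y = y * b := by
    have h1 : y⁻¹ * b * y = b := by
      have h2 := congrArg (fun t => b * t) hz1
      simpa only [mul_inv_cancel_left, mul_one] using h2
    calc b * y = y * (y⁻¹ * b * y) := by group
      _ = y * b := by rw [h1]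
  rw [mem_centralizer_iff]
  intro t ht
  have ht' : t ∈ A ⊔ zpowers b := by rw [eq_sup hAX hA hX hb hbA]; exact ht
  have h1 : A ⊔ zpowers b ≤ centralizer ({y} : Set G) := by
    refine sup_le (fun a ha => ?_) ?_
    · rw [mem_centralizer_singleton_iff]
      exact mem_center_iff.1 (hAc ha) y |>.symm ▸ rfl
    · rw [zpowers_le, mem_centralizer_singleton_iff]
      exact hyb
  have h2 := h1 ht'
  rw [mem_centralizer_singleton_iff] at h2
  exact h2

end cent

section main

variable {p : ℕ} [hp : Fact p.Prime]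

/-- **The case of a quotient with `EvenC`.** -/
theorem even_case {C : Type u} [Group C] [Finite C] {W : Type v} [CommGroup W] [MulDistribMulAction C W]
    {A : Subgroup C} (h : PartHyp p W A) (P : Sylow p C) (E : Eqs p W A (P : Subgroup C)) (N : Subgroup C) [N.Normal]
    (hPN : (P : Subgroup C) ≤ N) {S : Type u} [Group S] [Finite S] (f : N →* S) (hf : Function.Surjective f)
    (hk : ¬ p ^ 2 ∣ Nat.card f.ker) (hZ : center S = ⊥) (hS : EvenC p S) : False := by
  classical
  refine false_of_even hS.odd E fun X => ?_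
  obtain ⟨X, hXP, hXc, hAX⟩ := X
  change Even (cX p X)
  have hXN : X ≤ N := hXP.trans hPN
  have hAN : A ≤ N := hAX.trans hXN
  -- inside `N`
  have hAc1 : A.subgroupOf N ≤ center N := by
    intro a ha
    rw [mem_center_iff]
    intro g
    exact Subtype.ext (mem_center_iff.1 (h.central ha) g)
  have hA1 : Nat.card (A.subgroupOf N) = p := by
    rw [Nat.card_congr (subgroupOfEquivOfLe hAN).toEquiv, h.cardA]
  have hX1 : Nat.card (X.subgroupOf N) = p ^ 2 := by
    rw [Nat.card_congr (subgroupOfEquivOfLe hXN).toEquiv, hXc]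
  have hAX1 : A.subgroupOf N ≤ X.subgroupOf N := fun a ha => hAX ha
  have hAf : A.subgroupOf N ≤ f.ker := by
    intro a ha
    have h1 : f a ∈ center S := by
      rw [mem_center_iff]
      intro s
      obtain ⟨g, rfl⟩ := hf s
      rw [← map_mul, ← map_mul, mem_center_iff.1 (hAc1 ha) g]
    rwa [hZ, mem_bot] at h1
  obtain ⟨b, hb, hbA⟩ : ∃ b ∈ X.subgroupOf N, b ∉ A.subgroupOf N := by
    by_contra hcon
    push Not at hcon
    have h1 := card_dvd_of_le (show X.subgroupOf N ≤ A.subgroupOf N from hcon)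
    rw [hA1, hX1] at h1
    have h2 := Nat.le_of_dvd hp.out.pos h1
    have h3 := hp.out.two_le
    nlinarith
  have hPc1 : IsMulCommutative ((P.subtype hPN : Sylow p N) : Subgroup N) := by
    refine ⟨⟨fun x y => ?_⟩⟩
    apply Subtype.ext
    apply Subtype.ext
    exact H976.PSq.mul_comm_of E.comm x.2 y.2
  have hlift : ∀ s : S, s * f b = f b * s → ∃ y ∈ centralizer (X.subgroupOf N : Set N), f y = s := fun s hs =>
    exists_lift f hf (P.subtype hPN) hPc1 hk hAc1 hA1 hAf hAX1 hX1 hb hbA hs
  -- the order of `f b`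
  have hfb1 : f b ≠ 1 := by
    intro h1
    have h2 : X.subgroupOf N ≤ f.ker := by
      rw [← eq_sup hAX1 hA1 hX1 hb hbA]
      exact sup_le hAf (zpowers_le.2 h1)
    exact hk (hX1 ▸ card_dvd_of_le h2)
  have hfbp : orderOf (f b) = p := by
    refine orderOf_eq_prime ?_ hfb1
    rw [← map_pow]
    have h1 : b ^ p = 1 := Subtype.ext (E.exp _ (hXP hb))
    rw [h1, map_one]
  -- the homomorphism
  set D : Subgroup C := centralizer (X : Set C) with hD
  have hmemD : ∀ y : N, y ∈ centralizer (X.subgroupOf N : Set N) ↔ (y : C) ∈ D := by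
    intro y
    rw [hD, mem_centralizer_iff, mem_centralizer_iff]
    constructor
    · intro h1 t ht
      exact congrArg Subtype.val (h1 ⟨t, hXN ht⟩ ht)
    · intro h1 t ht
      exact Subtype.ext (h1 t ht)
  let ι : (N.subgroupOf D) →* N := (D.subtype.comp (N.subgroupOf D).subtype).codRestrict N (fun d => d.2)
  let φ : (N.subgroupOf D) →* centralizer ({f b} : Set S) := (f.comp ι).codRestrict _ (fun d => by
    rw [mem_centralizer_singleton_iff]
    have h1 : (ι d) * b = b * ι d := by
      apply Subtype.ext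
      exact (mem_centralizer_iff.1 d.1.2 b hb).symm
    change f (ι d) * f b = f b * f (ι d)
    rw [← map_mul, h1, map_mul])
  have hφ : Function.Surjective φ := by
    rintro ⟨s, hs⟩
    rw [mem_centralizer_singleton_iff] at hs
    obtain ⟨y, hy, hys⟩ := hlift s hs
    refine ⟨⟨⟨y, (hmemD y).1 hy⟩, y.2⟩, ?_⟩
    apply Subtype.ext
    exact hys
  have hPD : (P : Subgroup C) ≤ D := by
    intro x hx
    rw [hD, mem_centralizer_iff]
    intro t ht
    exact H976.PSq.mul_comm_of E.comm (hXP ht) hx
  have h1 : Nat.card (Sylow p (N.subgroupOf D)) = Nat.card (Sylow p D) :=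
    card_sylow_normal (N.subgroupOf D) (P.subtype hPD) (fun x hx => hPN hx)
  have h2 := card_sylow_dvd (p := p) φ hφ
  rw [h1] at h2
  exact (hS.even _ hfbp).trans_dvd h2

end main

end Cfsg.Agent.H189.Psq
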