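import Cfsg.Agent.H189.Psq.HeInv
import Cfsg.Agent.H189.Psq.Lift
import Cfsg.Agent.H189.Psq.RowB
import Cfsg.Agent.H829.Pw.BSeven
import Cfsg.Agent.H934.OutB
import Cfsg.Agent.H696.PSq.DefsE
import Cfsg.Agent.S2084

/-!
# S4844 (TEAM PSQ), the Baby Monster, the prime 7 (helper189)

* `even_b` : the centralizer of an element `x` of order 7 has an even number of Sylow 7-subgroups: a lift of `x` to the
  Monster has the centralizer `7 × He`, see `even_he`;
* `evenC_b` : `EvenC 7 B`.
-/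

set_option autoImplicit false
set_option maxRecDepth 100000

namespace Cfsg.Agent.H189.Psq

open Subgroup Cfsg
open Cfsg.Agent.LThreeMB (XX Zx)

universe u

/-- **Elements of order 7 of the Baby Monster.** -/
theorem even_b {L : Type u} [Group L] [Finite L] (h : Spor.IsoB L) {x : L} (hx : orderOf x = 7) :
    Even (Nat.card (Sylow 7 (centralizer ({x} : Set L)))) := by
  have hp : Fact (Nat.Prime 7) := ⟨by norm_num⟩
  have hfin : Finite H630.Baby.Mon := MThirteen.Row.finite
  obtain ⟨t, ht, h2, ⟨e⟩⟩ := H979.OddB.exists_cover h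
  obtain ⟨a, ha, ha'⟩ := H979.CovLift.exists_lift h2 hp.out (by norm_num) (x := e.symm x)
    (by rw [MulEquiv.orderOf_eq, hx])
  have ha7 : a ^ 7 = 1 := by rw [← ha, pow_orderOf_eq_one]
  have hat : (a : H630.Baby.Mon) * t = t * a := mem_centralizer_singleton_iff.1 a.2
  have hao : orderOf (a : H630.Baby.Mon) = 7 := by rw [Subgroup.orderOf_coe, ha]
  -- down to `B`
  have hA := Lift.card_sylow_cent (Z := center ↥(centralizer ({t} : Set H630.Baby.Mon))) le_rfl (n := 7)
    (by rw [h2]; norm_num) ha7 7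
  have hA' := H710.PSq.even_cent_of_equiv (p := 7) e (x := QuotientGroup.mk a)
  rw [← hA, ha', e.apply_symm_apply] at hA'
  apply hA'
  -- `C(a) ∩ C(t)`
  rw [← H482.SylowNumbers.card_sylow_congr 7 (LThreeB.centXT a)]
  obtain ⟨g, hg⟩ := H829.Pw.exists_he (v := t) ht hao hat
  have hcj := LThreeB.conjXT g⁻¹ (a : H630.Baby.Mon) t
  rw [inv_inv] at hcj
  rw [H482.SylowNumbers.card_sylow_congr 7 hcj]
  set b : H630.Baby.Mon := g⁻¹ * a * g with hb
  set s : H630.Baby.Mon := g⁻¹ * t * g with hs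
  have hbo : orderOf b = 7 := by
    have h6 := MulEquiv.orderOf_eq (MulAut.conj g⁻¹) (a : H630.Baby.Mon)
    rw [MulAut.conj_apply, inv_inv] at h6
    rw [hb, h6, hao]
  have hso : orderOf s = 2 := by
    have h6 := MulEquiv.orderOf_eq (MulAut.conj g⁻¹) t
    rw [MulAut.conj_apply, inv_inv] at h6
    rw [hs, h6]
    exact MThirteen.Row.ta_order ht
  have hbs : s * b = b * s := by
    calc g⁻¹ * t * g * (g⁻¹ * a * g) = g⁻¹ * (t * a) * g := by group
      _ = g⁻¹ * (a * t) * g := by rw [hat]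
      _ = b * s := by rw [hb, hs]; group
  -- up to `C(b)/⟨b⟩`
  let s' : ↥(centralizer ({b} : Set H630.Baby.Mon)) := ⟨s, mem_centralizer_singleton_iff.2 hbs⟩
  have hs' : s' ^ 2 = 1 := Subtype.ext (by
    show s ^ 2 = 1
    rw [← hso, pow_orderOf_eq_one])
  rw [← H482.SylowNumbers.card_sylow_congr 7 (LThreeB.centXT' s')]
  have hZ : Nat.card (Zx b) = 7 := by
    rw [Zx, Nat.card_zpowers, ← hbo]
    exact Subgroup.orderOf_mk _ _
  rw [Lift.card_sylow_cent (Z := Zx b) (LThreeMB.Zx_le_center b) (n := 2) (by rw [hZ]; norm_num) hs' 7]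
  refine HeInv.even_he hg ?_
  have h2f : Fact (Nat.Prime 2) := ⟨Nat.prime_two⟩
  refine orderOf_eq_prime (congrArg (QuotientGroup.mk (s := Zx b)) hs') ?_
  intro h3
  have h4 : s' ∈ Zx b := (QuotientGroup.eq_one_iff s').1 h3
  have h5 : orderOf s' ∣ Nat.card (Zx b) := by
    have h6 := orderOf_dvd_natCard (⟨s', h4⟩ : Zx b)
    rwa [Subgroup.orderOf_mk] at h6
  have h7 : orderOf s' = 2 := by rw [← Subgroup.orderOf_coe]; exact hso
  rw [hZ, h7] at h5
  norm_num at h5

/-- **The Baby Monster, `p = 7`.** -/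
theorem evenC_b {S : Type u} [Group S] [Finite S] (h : Spor.IsoB S) : H696.PSq.EvenC 7 S where
  odd := by norm_num
  sq := by rw [Cfsg.Agent.H995.IMB.card_of h]; norm_num
  cube := by rw [Cfsg.Agent.H995.IMB.card_of h]; norm_num
  out := by
    obtain ⟨e⟩ := h
    rw [H934.OutB.card_out_congr e, Cfsg.Agent.S2084.result]
    norm_num
  even := fun _ hx => even_b h hx

end Cfsg.Agent.H189.Psq
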